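import Mathlib

/-! Regular sequences generating the same ideal are connected by elementary steps. -/

namespace Groth.Agent.RegChain

open RingTheory.Sequence

universe u

variable {A : Type u} [CommRing A] [IsLocalRing A] [IsNoetherianRing A]

/-- An elementary step. -/
abbrev Step (w w' : List A) : Prop :=
  w.Perm w' ∨ (w.length = w'.length ∧ w.dropLast = w'.dropLast)

lemma mem_maximalIdeal {w : List A} (h : IsRegular A w) {r : A} (hr : r ∈ w) :
    r ∈ IsLocalRing.maximalIdeal A := by
  by_contra hc
  have hu : IsUnit r := by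
    rw [IsLocalRing.mem_maximalIdeal, mem_nonunits_iff, not_not] at hc; exact hc
  apply h.top_ne_smul
  rw [Ideal.eq_top_of_isUnit_mem (Ideal.ofList w) (Ideal.subset_span hr) hu, Submodule.top_smul]

lemma ofList_le_maximalIdeal {w : List A} (h : IsRegular A w) :
    Ideal.ofList w ≤ IsLocalRing.maximalIdeal A :=
  Ideal.span_le.mpr fun _ hr => mem_maximalIdeal h hr

lemma isRegular_of_perm {w w' : List A} (h : IsRegular A w) (p : w.Perm w') : IsRegular A w' :=
  IsLocalRing.isRegular_of_perm h p

lemma ofList_perm {w w' : List A} (p : w.Perm w') : Ideal.ofList w = Ideal.ofList w' :=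
  congrArg Ideal.span (Set.ext fun _ => p.mem_iff)

/-- In a regular sequence no element lies in the ideal of the others. -/
lemma not_mem_others {L L' : List A} {x : A} (h : IsRegular A (L ++ x :: L')) :
    x ∉ Ideal.ofList (L ++ L') := by
  intro hx
  have p : (L ++ x :: L').Perm ((L ++ L') ++ [x]) :=
    (List.perm_middle).trans (List.perm_append_singleton x (L ++ L')).symm
  have h' := isRegular_of_perm h p
  have hw := ((isWeaklyRegular_append_iff A (L ++ L') [x]).mp h'.toIsWeaklyRegular).2
  rw [isWeaklyRegular_singleton_iff] at hw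
  have h0 : x • (Submodule.Quotient.mk (1 : A) :
      A ⧸ (Ideal.ofList (L ++ L') • ⊤ : Submodule A A)) = 0 := by
    rw [← Submodule.Quotient.mk_smul, Submodule.Quotient.mk_eq_zero, Ideal.smul_eq_mul,
      Ideal.mul_top, smul_eq_mul, mul_one]
    exact hx
  have h1 := hw.right_eq_zero_of_smul h0
  rw [Submodule.Quotient.mk_eq_zero, Ideal.smul_eq_mul, Ideal.mul_top] at h1
  have hle : Ideal.ofList (L ++ L') ≤ IsLocalRing.maximalIdeal A :=
    le_trans (Ideal.span_mono fun r (hr : r ∈ L ++ L') =>
      show r ∈ L ++ x :: L' by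
        rcases List.mem_append.mp hr with hr | hr
        · exact List.mem_append_left _ hr
        · exact List.mem_append_right _ (List.mem_cons_of_mem _ hr))
      (ofList_le_maximalIdeal h)
  exact (IsLocalRing.maximalIdeal.isMaximal A).ne_top
    ((Ideal.eq_top_iff_one _).mpr (hle h1))

/-- In a regular sequence, an element is not even in the ideal of the preceding ones plus `m I`. -/
lemma not_mem_sup_smul {L L' : List A} {x : A} (h : IsRegular A (L ++ x :: L')) :
    x ∉ Ideal.ofList L ⊔ IsLocalRing.maximalIdeal A * Ideal.ofList (L ++ x :: L') := by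
  intro hx
  apply not_mem_others h
  have h1 : Ideal.ofList L ≤ Ideal.ofList (L ++ L') :=
    Ideal.span_mono fun r (hr : r ∈ L) => List.mem_append_left L' hr
  have h2 : Ideal.ofList L' ≤ Ideal.ofList (L ++ L') :=
    Ideal.span_mono fun r (hr : r ∈ L') => List.mem_append_right L hr
  have e1 : Ideal.ofList (L ++ x :: L') = Ideal.span {x} ⊔ Ideal.ofList (L ++ L') :=
    (ofList_perm (List.perm_middle (a := x) (l₁ := L) (l₂ := L'))).trans (Ideal.ofList_cons x (L ++ L'))
  have hle : Ideal.ofList L ⊔ IsLocalRing.maximalIdeal A * Ideal.ofList (L ++ x :: L') ≤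
      Ideal.ofList (L ++ L') ⊔ IsLocalRing.maximalIdeal A * Ideal.span {x} := by
    rw [e1, Ideal.mul_sup]
    exact sup_le (le_trans h1 le_sup_left)
      (sup_le le_sup_right (le_trans Ideal.mul_le_right le_sup_left))
  obtain ⟨a, ha, b, hb, hab⟩ := Submodule.mem_sup.mp (hle hx)
  obtain ⟨c, hc, hcb⟩ := Ideal.mem_mul_span_singleton.mp hb
  have hu : IsUnit (1 - c) := IsLocalRing.isUnit_one_sub_self_of_mem_nonunits c hc
  have e2 : (1 - c) * x = a := by
    rw [sub_mul, one_mul, hcb]
    exact sub_eq_iff_eq_add.mpr hab.symm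
  exact (Ideal.unit_mul_mem_iff_mem (Ideal.ofList (L ++ L')) hu).mp (by rw [e2]; exact ha)

omit [IsNoetherianRing A] in
/-- Some element of `rest` can be exchanged for `x`. -/
lemma exists_exchange (N : Ideal A) (done : List A) : ∀ (rest : List A) (x : A),
    (∀ r ∈ rest, IsLocalRing.maximalIdeal A * Ideal.span {r} ≤ N) →
    x ∈ Ideal.ofList (done ++ rest) → x ∉ Ideal.ofList done ⊔ N →
    ∃ l₁ r l₂ c, rest = l₁ ++ r :: l₂ ∧ IsUnit c ∧ x - c * r ∈ Ideal.ofList (done ++ (l₁ ++ l₂)) := by
  intro rest
  induction rest with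
  | nil =>
    intro x _ hx hnot
    rw [List.append_nil] at hx
    exact absurd (le_sup_left (b := N) hx) hnot
  | cons r tail ih =>
    intro x hN hx hnot
    rw [Ideal.ofList_append, Ideal.ofList_cons, ← sup_assoc, sup_comm (Ideal.ofList done),
      sup_assoc, ← Ideal.ofList_append] at hx
    obtain ⟨a, ha, b, hb, hab⟩ := Submodule.mem_sup.mp hx
    obtain ⟨c, rfl⟩ := Ideal.mem_span_singleton'.mp ha
    by_cases hc : IsUnit c
    · refine ⟨[], r, tail, c, rfl, hc, ?_⟩
      rw [← hab, add_sub_cancel_left]
      exact hb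
    · have hcN : c * r ∈ N := hN r List.mem_cons_self
        (Ideal.mul_mem_mul hc (Ideal.mem_span_singleton_self r))
      have hb' : b ∉ Ideal.ofList done ⊔ N := by
        intro hb'
        apply hnot
        rw [← hab]
        exact add_mem (le_sup_right (a := Ideal.ofList done) hcN) hb'
      obtain ⟨l₁, r', l₂, c', h1, h2, h3⟩ :=
        ih b (fun r'' hr'' => hN r'' (List.mem_cons_of_mem _ hr'')) hb hb'
      refine ⟨r :: l₁, r', l₂, c', by rw [h1]; rfl, h2, ?_⟩
      have e : x - c' * r' = c * r + (b - c' * r') := by rw [← hab]; ring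
      rw [e, List.cons_append, Ideal.ofList_append, Ideal.ofList_cons, ← sup_assoc,
        sup_comm (Ideal.ofList done), sup_assoc, ← Ideal.ofList_append]
      exact Submodule.add_mem_sup (Ideal.mul_mem_left _ c (Ideal.mem_span_singleton_self r)) h3

/-- Changing the last element of a regular sequence, keeping the ideal. -/
lemma isRegular_change_last {L : List A} {a w : A} (h : IsRegular A (L ++ [a]))
    (he : Ideal.ofList (L ++ [w]) = Ideal.ofList (L ++ [a])) : IsRegular A (L ++ [w]) := by
  obtain ⟨h1, h2⟩ := h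
  refine ⟨?_, by rwa [he]⟩
  rw [isWeaklyRegular_append_iff, isWeaklyRegular_singleton_iff] at h1 ⊢
  refine ⟨h1.1, ?_⟩
  have ha : a ∈ Ideal.ofList (L ++ [w]) := by
    rw [he]; exact Ideal.subset_span (List.mem_append_right _ (List.mem_singleton_self a))
  rw [Ideal.ofList_append, Ideal.ofList_singleton] at ha
  obtain ⟨l, hl, m, hm, hlm⟩ := Submodule.mem_sup.mp ha
  obtain ⟨c, rfl⟩ := Ideal.mem_span_singleton'.mp hm
  refine IsSMulRegular.of_right_eq_zero_of_smul fun z hz => h1.2.right_eq_zero_of_smul ?_
  have hl0 : l • z = 0 := by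
    obtain ⟨z', rfl⟩ := Submodule.Quotient.mk_surjective _ z
    rw [← Submodule.Quotient.mk_smul, Submodule.Quotient.mk_eq_zero]
    exact Submodule.smul_mem_smul hl Submodule.mem_top
  rw [← hlm, add_smul, hl0, zero_add, mul_smul, hz, smul_zero]

/-- Good sequences for `I`. -/
def Good (I : Ideal A) (w : List A) : Prop := IsRegular A w ∧ Ideal.ofList w = I

/-- One allowed move. -/
def Move (I : Ideal A) (w w' : List A) : Prop := Good I w' ∧ Step w w'

lemma reach_perm {I : Ideal A} {w w' : List A} (h : Good I w) (p : w.Perm w') :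
    Move I w w' :=
  ⟨⟨isRegular_of_perm h.1 p, (ofList_perm p).symm.trans h.2⟩, Or.inl p⟩

lemma reach_prefix {I : Ideal A} {u v : List A} (hu : Good I u) (hv : Good I v) :
    ∀ (done todo : List A), v = done ++ todo →
      ∃ rest, Relation.ReflTransGen (Move I) u (done ++ rest) ∧ Good I (done ++ rest) := by
  intro done
  induction done using List.reverseRecOn with
  | nil => exact fun _ _ => ⟨u, Relation.ReflTransGen.refl, hu⟩
  | append_singleton d x ih =>
    intro todo hvd
    rw [List.append_assoc, List.singleton_append] at hvd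
    obtain ⟨rest, hre, hgood⟩ := ih (x :: todo) hvd
    have hxI : x ∈ I := by
      rw [← hv.2]
      exact Ideal.subset_span (show x ∈ v by rw [hvd]; simp)
    have hnot : x ∉ Ideal.ofList d ⊔ IsLocalRing.maximalIdeal A * I := by
      rw [← hv.2, hvd]
      exact not_mem_sup_smul (hvd ▸ hv.1)
    obtain ⟨l₁, r, l₂, c, hrest, hc, hmem⟩ :=
      exists_exchange (IsLocalRing.maximalIdeal A * I) d rest x
        (fun r hr => Ideal.mul_mono_right ((Ideal.span_singleton_le_iff_mem I).mpr
          (hgood.2 ▸ Ideal.subset_span (List.mem_append_right d hr)))) (hgood.2 ▸ hxI) hnot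
    have p1 : (d ++ rest).Perm ((d ++ (l₁ ++ l₂)) ++ [r]) := by
      rw [hrest, List.append_assoc]
      exact (List.perm_middle.trans (List.perm_append_singleton r (l₁ ++ l₂)).symm).append_left d
    have g1 := (reach_perm hgood p1).1
    have e2 : Ideal.ofList ((d ++ (l₁ ++ l₂)) ++ [x]) = I := by
      apply le_antisymm
      · rw [Ideal.ofList_append, sup_le_iff]
        refine ⟨?_, ?_⟩
        · rw [← g1.2, Ideal.ofList_append _ [r]]; exact le_sup_left
        · rw [Ideal.ofList_singleton, Ideal.span_singleton_le_iff_mem]; exact hxI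
      · rw [← g1.2, Ideal.ofList_append _ [r], Ideal.ofList_append _ [x]]
        refine sup_le le_sup_left ?_
        rw [Ideal.ofList_singleton r, Ideal.span_singleton_le_iff_mem, Ideal.ofList_singleton x]
        have : c * r = x - (x - c * r) := by ring
        refine (Ideal.unit_mul_mem_iff_mem _ hc).mp ?_
        rw [this]
        exact sub_mem (le_sup_right (a := Ideal.ofList (d ++ (l₁ ++ l₂)))
          (Ideal.mem_span_singleton_self x)) (le_sup_left (b := Ideal.span {x}) hmem)
    have g2 : Good I ((d ++ (l₁ ++ l₂)) ++ [x]) :=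
      ⟨isRegular_change_last g1.1 (e2.trans g1.2.symm), e2⟩
    have p2 : ((d ++ (l₁ ++ l₂)) ++ [x]).Perm ((d ++ [x]) ++ (l₁ ++ l₂)) := by
      rw [List.append_assoc d _ [x], List.append_assoc d [x]]
      exact List.perm_append_comm.append_left d
    refine ⟨l₁ ++ l₂, ?_, (reach_perm g2 p2).1⟩
    refine ((hre.tail (reach_perm hgood p1)).tail ⟨g2, Or.inr ⟨?_, ?_⟩⟩).tail (reach_perm g2 p2)
    · simp
    · rw [List.dropLast_concat, List.dropLast_concat]

lemma chain_of_reach {I : Ideal A} {u v : List A} (hu : Good I u)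
    (h : Relation.ReflTransGen (Move I) u v) :
    ∃ ws : List (List A), ws.head? = some u ∧ ws.getLast? = some v ∧
      (∀ w ∈ ws, Good I w) ∧ List.IsChain Step ws := by
  induction h with
  | refl => exact ⟨[u], rfl, rfl, by simpa using hu, List.isChain_singleton u⟩
  | @tail b c _ hbc ih =>
    obtain ⟨ws, h1, h2, h3, h4⟩ := ih
    refine ⟨ws ++ [c], ?_, by simp, ?_, ?_⟩
    · cases ws with
      | nil => simp at h1
      | cons a l => simpa using h1
    · intro w hw
      rcases List.mem_append.mp hw with hw | hw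
      · exact h3 w hw
      · rw [List.mem_singleton.mp hw]; exact hbc.1
    · refine h4.append (List.isChain_singleton c) ?_
      intro x hx y hy
      rw [h2] at hx
      simp only [List.head?_cons, Option.mem_def, Option.some.injEq] at hx hy
      rw [← hx, ← hy]
      exact hbc.2

theorem main (u v : List A) (hu : IsRegular A u) (hv : IsRegular A v)
    (huv : Ideal.span {x | x ∈ u} = Ideal.span {x | x ∈ v}) :
    ∃ ws : List (List A), ws.head? = some u ∧ ws.getLast? = some v ∧
      (∀ w ∈ ws, IsRegular A w ∧ Ideal.span {x | x ∈ w} = Ideal.span {x | x ∈ u}) ∧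
      List.IsChain Step ws := by
  obtain ⟨rest, hre, hgood⟩ := reach_prefix (I := Ideal.ofList u) ⟨hu, rfl⟩ ⟨hv, huv.symm⟩ v []
    (List.append_nil v).symm
  have hnil : rest = [] := by
    cases rest with
    | nil => rfl
    | cons r tail =>
      exfalso
      apply not_mem_others (L := v) (L' := tail) hgood.1
      rw [Ideal.ofList_append]
      refine Ideal.mem_sup_left ?_
      change r ∈ Ideal.span {x | x ∈ v}
      rw [← huv, show Ideal.span {x | x ∈ u} = Ideal.ofList u from rfl, ← hgood.2]
      exact Ideal.subset_span (List.mem_append_right v List.mem_cons_self)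
  subst hnil
  rw [List.append_nil] at hre
  exact chain_of_reach ⟨hu, rfl⟩ hre

end Groth.Agent.RegChain
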